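import Mathlib
import Cfsg.Agent.Lib.Helper14.Spec.Defs

/-!
# SPEC (S2362) package [TCYC]

In the commutant of an irreducible endomorphism, an element of order exactly `m` generates all
the elements whose `m`-th power is one.
-/

set_option autoImplicit false

universe u

namespace Cfsg.Agent.Lib.Helper29.Spec

open Module Cfsg.Agent.Lib.Helper14.Spec

/-- **[TCYC]** -/
theorem pkgTorusCyc : PkgTorusCyc.{u} := by
  intro hModel F _ _ W _ _ _ x hx m h c hm hhx hcx hord hcm
  obtain ⟨K, iK, iA, iFin, φ, hφinj, hφ, -⟩ := hModel x hx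
  obtain ⟨a, rfl⟩ := (hφ h).mp hhx
  obtain ⟨b, rfl⟩ := (hφ c).mp hcx
  haveI : NeZero m := ⟨hm.ne'⟩
  have ha : IsPrimitiveRoot a m := by
    rw [IsPrimitiveRoot.iff_def]
    constructor
    · apply hφinj
      rw [map_pow, map_one]
      exact (hord m).mpr dvd_rfl
    · intro l hl
      apply (hord l).mp
      rw [← map_pow, hl, map_one]
  have hb : b ^ m = 1 := by
    apply hφinj
    rw [map_pow, map_one]
    exact hcm
  obtain ⟨i, -, hi⟩ := ha.eq_pow_of_pow_eq_one hb
  exact ⟨i, by rw [← hi, map_pow]⟩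

end Cfsg.Agent.Lib.Helper29.Spec
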